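import Groth.Agent.Lib.Brauer.GenSymbol31.Step
import Groth.Agent.Lib.Brauer.Maximal
import Mathlib.Data.Nat.Factors
import Mathlib.FieldTheory.IsAlgClosed.AlgebraicClosure
import Mathlib.Algebra.Field.ULift
import Mathlib.RingTheory.RootsOfUnity.AlgebraicallyClosed

/-!
# Division algebras of prescribed period and index
-/

namespace Groth.Agent.Lib.Brauer.GenSymbol31

set_option linter.style.haveILetI false

open scoped TensorProduct
open Groth.Agent.Lib Groth.Agent.Lib.Brauer.BEq

universe u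

/-- A division algebra of degree `N` killed by `p`, over a field with the `p`-th roots of unity. -/
def HasDiv (p N : ℕ) : Prop :=
  ∃ (K : Type u) (_ : Field K) (T : Type u) (_ : DivisionRing T) (_ : Algebra K T),
    Algebra.IsCentral K T ∧ FiniteDimensional K T ∧ Module.finrank K T = N ^ 2 ∧
    Curves.Splits K (CSAGal.tpow K T p) K ∧ ∃ ω : K, IsPrimitiveRoot ω p

theorem hasDiv_one {p : ℕ} (hp : 0 < p) : HasDiv.{u} p 1 := by
  haveI : CharZero (ULift.{u} ℚ) :=
    charZero_of_injective_ringHom (ULift.ringEquiv (R := ℚ)).symm.injective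
      (f := (ULift.ringEquiv (R := ℚ)).symm.toRingHom)
  let K := AlgebraicClosure (ULift.{u} ℚ)
  haveI : CharZero K := charZero_of_injective_ringHom (algebraMap (ULift.{u} ℚ) K).injective
  haveI : NeZero (p : K) := ⟨Nat.cast_ne_zero.mpr hp.ne'⟩
  obtain ⟨ω, hω⟩ := HasEnoughRootsOfUnity.exists_primitiveRoot K p
  obtain ⟨h1, h2, h3⟩ := Index.csa_base K
  refine ⟨K, inferInstance, K, inferInstance, inferInstance, h1, h3, by simp, ?_, ω, hω⟩
  exact (Index.splits_tpow_iff p).mpr (Index.tpow_base p)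

theorem primitive_pow {K : Type u} [Field K] {ω : K} {p n : ℕ} (hp : 0 < p) (hn : n ∣ p)
    (hω : IsPrimitiveRoot ω p) : IsPrimitiveRoot (ω ^ (p / n)) n :=
  hω.pow hp (Nat.div_mul_cancel hn).symm

/-- The step, keeping track of the exact period for the last one. -/
theorem step {K : Type u} [Field K] {T : Type u} [DivisionRing T] [Algebra K T] [Algebra.IsCentral K T]
    [FiniteDimensional K T] {N : ℕ} (hN : Module.finrank K T = N ^ 2) {p n : ℕ} (hp : 0 < p)
    (hnp : n ∣ p) (hT : Curves.Splits K (CSAGal.tpow K T p) K) {ω : K} (hω : IsPrimitiveRoot ω p) :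
    ∃ (D : Type u) (_ : DivisionRing D) (_ : Algebra (RF K) D),
      Algebra.IsCentral (RF K) D ∧ FiniteDimensional (RF K) D ∧
      Module.finrank (RF K) D = (n * N) ^ 2 ∧
      Curves.Splits (RF K) (CSAGal.tpow (RF K) D p) (RF K) ∧
      (∀ e, 0 < e → e < n → ¬ Curves.Splits (RF K) (CSAGal.tpow (RF K) D e) (RF K)) := by
  have hn : 0 < n := Nat.pos_of_dvd_of_pos hnp hp
  have hω' := primitive_pow hp hnp hω
  obtain ⟨S, _, _, s1, s2, s3, hS⟩ := exists_symbol K n hn _ hω'
  obtain ⟨g1, g2, g3⟩ := csa T (S := S) (K := K)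
  have hdom := isDomain T hn hω' hS
  have hdim : Module.finrank (RF K) (Alg S T (K := K)) = (n * N) ^ 2 := by
    obtain ⟨-, -, -, -, -, -, -, hd⟩ := hS
    rw [Module.finrank_tensorProduct, hd, Module.finrank_baseChange, hN, mul_pow]
  obtain ⟨E, _, _, -, -, -, -, hE⟩ := Maximal.exists_separable_degree T hN
  have hs := splits_tpow T hn hω' hS hnp hT
  have hno : ∀ e, 0 < e → e < n →
      ¬ Curves.Splits (RF K) (CSAGal.tpow (RF K) (Alg S T (K := K)) e) (RF K) :=
    fun e he hen => not_splits_tpow T hn hω' hS he hen E hE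
  letI := divisionRingOfFiniteDimensional (RF K) (S ⊗[RF K] (RF K ⊗[K] T))
  exact ⟨Alg S T (K := K), _, inferInstance, g1, g3, hdim, hs, hno⟩

theorem hasDiv_mul {p N n : ℕ} (hp : 0 < p) (hnp : n ∣ p) (h : HasDiv.{u} p N) :
    HasDiv.{u} p (n * N) := by
  obtain ⟨K, _, T, _, _, h1, h2, h3, h4, ω, hω⟩ := h
  obtain ⟨D, _, _, d1, d2, d3, d4, -⟩ := step h3 hp hnp h4 hω
  exact ⟨RF K, inferInstance, D, inferInstance, inferInstance, d1, d2, d3, d4,
    algebraMap K (RF K) ω, hω.map_of_injective (algebraMap K (RF K)).injective⟩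

theorem hasDiv_prod {p : ℕ} (hp : 0 < p) (l : List ℕ) (hl : ∀ n ∈ l, n ∣ p) :
    HasDiv.{u} p l.prod := by
  induction l with
  | nil => exact hasDiv_one hp
  | cons n l ih =>
    rw [List.prod_cons]
    exact hasDiv_mul hp (hl n (by simp)) (ih fun m hm => hl m (by simp [hm]))

theorem exists_division {p i : ℕ} (hp : 0 < p) (hi : 0 < i) (hpi : p ∣ i)
    (hprimes : ∀ q : ℕ, q.Prime → q ∣ i → q ∣ p) :
    ∃ (k : Type u) (_ : Field k) (D : Type u) (_ : DivisionRing D) (_ : Algebra k D),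
      Algebra.IsCentral k D ∧ FiniteDimensional k D ∧ Module.finrank k D = i ^ 2 ∧
      CSAGal.IsPeriod k D p := by
  obtain ⟨j, rfl⟩ := hpi
  have hj : j ≠ 0 := by rintro rfl; simp at hi
  obtain ⟨K, _, T, _, _, h1, h2, h3, h4, ω, hω⟩ := hasDiv_prod.{u} hp (Nat.primeFactorsList j)
    fun q hq => hprimes q (Nat.prime_of_mem_primeFactorsList hq)
      ((Nat.dvd_of_mem_primeFactorsList hq).trans (dvd_mul_left j p))
  rw [Nat.prod_primeFactorsList hj] at h3
  obtain ⟨D, _, _, d1, d2, d3, d4, d5⟩ := step h3 hp (dvd_refl p) h4 hω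
  exact ⟨RF K, inferInstance, D, inferInstance, inferInstance, d1, d2, d3, hp, d4, d5⟩

theorem exists_csa {p i d : ℕ} (hp : 0 < p) (hi : 0 < i) (hd : 0 < d) (hpi : p ∣ i) (hid : i ∣ d)
    (hprimes : ∀ q : ℕ, q.Prime → q ∣ i → q ∣ p) :
    ∃ (k : Type u) (_ : Field k) (A : Type u) (_ : Ring A) (_ : Algebra k A),
      Algebra.IsCentral k A ∧ IsSimpleRing A ∧ Module.finrank k A = d * d ∧
      CSAGal.IsPeriod k A p ∧ CSAGal.IsIndex k A i := by
  obtain ⟨k, _, D, _, _, h1, h2, h3, hper⟩ := exists_division.{u} hp hi hpi hprimes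
  obtain ⟨m, rfl⟩ := hid
  have hm : m ≠ 0 := by rintro rfl; simp at hd
  haveI : NeZero m := ⟨hm⟩
  haveI : Algebra.IsCentral k (Matrix (Fin m) (Fin m) D) := inferInstance
  haveI : IsSimpleRing (Matrix (Fin m) (Fin m) D) := inferInstance
  haveI : FiniteDimensional k (Matrix (Fin m) (Fin m) D) := inferInstance
  refine ⟨k, inferInstance, Matrix (Fin m) (Fin m) D, inferInstance, inferInstance, inferInstance,
    inferInstance, ?_, ?_, Period.isIndex_of_division AlgEquiv.refl h3⟩
  · rw [Module.finrank_matrix, h3, Fintype.card_fin]; ring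
  · have hb : BEq k (Matrix (Fin m) (Fin m) D) D := matrix_equiv m
    have key : ∀ e, Curves.Splits k (CSAGal.tpow k (Matrix (Fin m) (Fin m) D) e) k ↔
        Curves.Splits k (CSAGal.tpow k D e) k := fun e => by
      rw [Index.splits_tpow_iff, Index.splits_tpow_iff]
      exact ⟨fun h => (Index.tpow_congr hb e).symm.trans h, fun h => (Index.tpow_congr hb e).trans h⟩
    exact ⟨hp, (key p).mpr hper.2.1, fun e he hlt h => hper.2.2 e he hlt ((key e).mp h)⟩

end Groth.Agent.Lib.Brauer.GenSymbol31
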